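import Mathlib
import Groth.Agent.Lib.Helper8.Elkik.Main
import Groth.Agent.Lib.Helper8.Elkik.SmoothData
import Groth.Agent.Lib.Helper8.SemiFact.Alg
import Groth.Agent.Lib.Helper8.Japanese.ComplRed2
import Groth.Agent.Lib.Helper9.CompleteDVRExt

/-!
# helper8: a finite DVR extension of a complete DVR is determined by a high enough truncation
(Krasner-type statement via the Tougeron/Elkik lemma `exists_solution_of_data`).
-/

set_option autoImplicit false
universe u
open MvPolynomial IsLocalRing

namespace Groth.Agent.H8.DvrApprox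

/-- lift an algebra map along a surjection. -/
theorem exists_algHom_of_ker_le {R P B C : Type*} [CommRing R] [CommRing P] [CommRing B]
    [CommRing C] [Algebra R P] [Algebra R B] [Algebra R C] (π : P →ₐ[R] B)
    (hπ : Function.Surjective π) (g : P →ₐ[R] C) (h : ∀ p, π p = 0 → g p = 0) :
    ∃ φ : B →ₐ[R] C, ∀ p, φ (π p) = g p := by
  let s := Function.surjInv hπ
  have hs : ∀ b, π (s b) = b := Function.surjInv_eq hπ
  have key : ∀ p q, π p = π q → g p = g q := fun p q hpq => by
    have := h (p - q) (by rw [map_sub, hpq, sub_self])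
    rwa [map_sub, sub_eq_zero] at this
  refine ⟨{ toFun := fun b => g (s b)
            map_one' := ?_, map_mul' := ?_, map_zero' := ?_, map_add' := ?_, commutes' := ?_ }, ?_⟩
  · show g (s 1) = 1
    rw [key (s 1) 1 (by rw [hs, map_one]), map_one]
  · intro x y
    show g (s (x * y)) = g (s x) * g (s y)
    rw [key (s (x * y)) (s x * s y) (by rw [hs, map_mul, hs, hs]), map_mul]
  · show g (s 0) = 0
    rw [key (s 0) 0 (by rw [hs, map_zero]), map_zero]
  · intro x y
    show g (s (x + y)) = g (s x) + g (s y)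
    rw [key (s (x + y)) (s x + s y) (by rw [hs, map_add, hs, hs]), map_add]
  · intro r
    show g (s (algebraMap R B r)) = algebraMap R C r
    rw [key (s (algebraMap R B r)) (algebraMap R P r) (by rw [hs, AlgHom.commutes]),
      AlgHom.commutes]
  · intro p
    exact key _ _ (hs _)

theorem hrel_map {A A' : Type u} [CommRing A] [CommRing A'] (φ : A →+* A') {N m : ℕ} (t : A)
    (g : Fin m → MvPolynomial (Fin N) A) (c : Fin N → Fin m → MvPolynomial (Fin N) A) (s : ℕ)
    (hrel : ∀ i, C (t ^ s) * g i - ∑ k, pderiv k (g i) * ∑ j, c k j * g j ∈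
      Ideal.span (Set.range g) ^ 2) :
    ∀ i, C (φ t ^ s) * MvPolynomial.map φ (g i) -
        ∑ k, pderiv k (MvPolynomial.map φ (g i)) *
          ∑ j, MvPolynomial.map φ (c k j) * MvPolynomial.map φ (g j) ∈
      Ideal.span (Set.range fun i => MvPolynomial.map φ (g i)) ^ 2 := by
  classical
  intro i
  let Φ : MvPolynomial (Fin N) A →+* MvPolynomial (Fin N) A' := MvPolynomial.map φ
  have hspan : (Ideal.span (Set.range g)).map Φ = Ideal.span (Set.range fun i => Φ (g i)) := by
    rw [Ideal.map_span, ← Set.range_comp]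
    rfl
  have h1 := Ideal.mem_map_of_mem Φ (hrel i)
  rw [Ideal.map_pow, hspan] at h1
  have h2 : Φ (C (t ^ s) * g i - ∑ k, pderiv k (g i) * ∑ j, c k j * g j) =
      C (φ t ^ s) * Φ (g i) - ∑ k, pderiv k (Φ (g i)) * ∑ j, Φ (c k j) * Φ (g j) := by
    rw [map_sub, map_mul, map_sum]
    have hC : Φ (C (t ^ s)) = C (φ t ^ s) := by
      show MvPolynomial.map φ (C (t ^ s)) = _
      rw [map_C, map_pow]
    rw [hC]
    congr 1
    refine Finset.sum_congr rfl fun k _ => ?_
    rw [map_mul, map_sum]
    congr 1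
    · show MvPolynomial.map φ (pderiv k (g i)) = pderiv k (MvPolynomial.map φ (g i))
      rw [pderiv_map]
    · refine Finset.sum_congr rfl fun j _ => ?_
      rw [map_mul]
  rwa [h2] at h1

section Ext

variable (A : Type u) [CommRing A] [IsDomain A] [IsDiscreteValuationRing A]
  [IsAdicComplete (maximalIdeal A) A] {ϖ : A} (hϖ : Irreducible ϖ)

include hϖ

/-- a DVR finite over `A` is not killed by `ϖ`. -/
theorem algebraMap_ne_zero (C : Type u) [CommRing C] [IsDomain C] [IsDiscreteValuationRing C]
    [Algebra A C] [Module.Finite A C] : algebraMap A C ϖ ≠ 0 := by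
  intro h0
  have hker : RingHom.ker (algebraMap A C) = maximalIdeal A := by
    have hle : maximalIdeal A ≤ RingHom.ker (algebraMap A C) := by
      rw [hϖ.maximalIdeal_eq, Ideal.span_le]
      intro x hx
      rw [Set.mem_singleton_iff] at hx
      rw [hx]
      exact h0
    have hne : RingHom.ker (algebraMap A C) ≠ ⊤ := RingHom.ker_ne_top _
    exact ((maximalIdeal.isMaximal A).eq_of_le hne hle).symm
  have hmax : (Ideal.comap (algebraMap A C) (⊥ : Ideal C)).IsMaximal := by
    rw [← RingHom.ker_eq_comap_bot, hker]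
    exact maximalIdeal.isMaximal A
  have hbot : (⊥ : Ideal C).IsMaximal :=
    Ideal.isMaximal_of_isIntegral_of_isMaximal_comap (R := A) ⊥ hmax
  exact IsDiscreteValuationRing.not_a_field C (IsLocalRing.eq_maximalIdeal hbot).symm

/-- a finite `A`-algebra is `ϖ`-adically complete, hence henselian along `ϖ`. -/
theorem henselian (C : Type u) [CommRing C] [Algebra A C] [Module.Finite A C] :
    HenselianRing C (Ideal.span {algebraMap A C ϖ}) := by
  haveI h1 : IsAdicComplete (maximalIdeal A) C :=
    Groth.Agent.H8.Jap.ComplRed.isAdicComplete_of_finite A (maximalIdeal A) C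
  haveI h2 : IsAdicComplete ((maximalIdeal A).map (algebraMap A C)) C :=
    Groth.Agent.H9.CDVR.isAdicComplete_map (maximalIdeal A)
  have hmap : (maximalIdeal A).map (algebraMap A C) = Ideal.span {algebraMap A C ϖ} := by
    rw [hϖ.maximalIdeal_eq, Ideal.map_span, Set.image_singleton]
  haveI h3 : IsAdicComplete (Ideal.span {algebraMap A C ϖ}) C := hmap ▸ h2
  infer_instance


theorem isLocalization_away (K : Type u) [Field K] [Algebra A K] [IsFractionRing A K]
    (L : Type u) [Field L] [Algebra K L] [Algebra A L] [IsScalarTower A K L]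
    [FiniteDimensional K L] [Algebra.IsSeparable K L]
    (B : Type u) [CommRing B] [Algebra A B] [Algebra B L] [IsScalarTower A B L]
    [IsIntegralClosure B A L] :
    IsLocalization.Away (algebraMap A B ϖ) L := by
  have hBinj : Function.Injective (algebraMap B L) := IsIntegralClosure.algebraMap_injective B A L
  have hAL : Function.Injective (algebraMap A L) := by
    rw [IsScalarTower.algebraMap_eq A K L]
    exact (algebraMap K L).injective.comp (IsFractionRing.injective A K)
  have hϖL : algebraMap A L ϖ ≠ 0 := (map_ne_zero_iff _ hAL).2 hϖ.ne_zero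
  refine ⟨?_, ?_, ?_⟩
  · rintro ⟨_, ⟨j, rfl⟩⟩
    rw [map_pow, ← IsScalarTower.algebraMap_apply A B L]
    exact (isUnit_iff_ne_zero.2 hϖL).pow j
  · intro z
    obtain ⟨y, hy0, hy⟩ := exists_integral_multiples A K ({z} : Finset L)
    have hyz := hy z (Finset.mem_singleton_self z)
    obtain ⟨b, hb⟩ := (IsIntegralClosure.isIntegral_iff (A := B)).1 hyz
    obtain ⟨j, u, hu⟩ := IsDiscreteValuationRing.eq_unit_mul_pow_irreducible hy0 hϖ
    refine ⟨(algebraMap A B ((u⁻¹ : Aˣ) : A) * b, ⟨algebraMap A B ϖ ^ j, ⟨j, rfl⟩⟩), ?_⟩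
    simp only
    rw [map_mul, hb, map_pow, ← IsScalarTower.algebraMap_apply A B L,
      ← IsScalarTower.algebraMap_apply A B L, Algebra.smul_def, hu, map_mul, map_pow]
    have : algebraMap A L ((u⁻¹ : Aˣ) : A) * algebraMap A L (u : A) = 1 := by
      rw [← map_mul, Units.inv_mul, map_one]
    linear_combination (-(algebraMap A L ϖ ^ j * z)) * this
  · intro x y hxy
    exact ⟨1, by rw [hBinj hxy]⟩

theorem smooth_L (K : Type u) [Field K] [Algebra A K] [IsFractionRing A K]
    (L : Type u) [Field L] [Algebra K L] [Algebra A L] [IsScalarTower A K L]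
    [FiniteDimensional K L] [Algebra.IsSeparable K L] : Algebra.Smooth A L := by
  haveI : IsLocalization.Away ϖ K :=
    Groth.Agent.H8.SemiFact.isLocalization_away_of_irreducible A hϖ K
  haveI : Algebra.Smooth A K := Algebra.Smooth.of_isLocalization_Away ϖ
  haveI : Algebra.FormallyEtale K L := Algebra.FormallyEtale.of_isSeparable K L
  haveI : Algebra.FinitePresentation K L :=
    Algebra.FinitePresentation.of_finiteType.1 inferInstance
  haveI : Algebra.Smooth K L := ⟨inferInstance, inferInstance⟩
  exact Algebra.Smooth.comp A K L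

theorem main (K : Type u) [Field K] [Algebra A K] [IsFractionRing A K]
    (L : Type u) [Field L] [Algebra K L] [Algebra A L] [IsScalarTower A K L]
    [FiniteDimensional K L] [Algebra.IsSeparable K L]
    (B : Type u) [CommRing B] [Algebra A B] [Algebra B L] [IsScalarTower A B L]
    [IsIntegralClosure B A L] :
    ∃ m₀ : ℕ, 0 < m₀ ∧ ∀ (C : Type u) [CommRing C] [IsDomain C] [IsDiscreteValuationRing C]
      [Algebra A C] [Module.Finite A C] (m : ℕ), m₀ < m →
      Nonempty ((B ⧸ Ideal.span {algebraMap A B (ϖ ^ m)}) ≃ₐ[A]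
        (C ⧸ Ideal.span {algebraMap A C (ϖ ^ m)})) → Nonempty (B ≃ₐ[A] C) := by
  classical
  have hBinj : Function.Injective (algebraMap B L) := IsIntegralClosure.algebraMap_injective B A L
  haveI : IsDomain B := hBinj.isDomain (algebraMap B L)
  haveI : IsDedekindDomain B := IsIntegralClosure.isDedekindDomain A K L B
  haveI : Module.Finite A B := IsIntegralClosure.finite A K L B
  haveI := isLocalization_away A hϖ K L B
  haveI := smooth_L A hϖ K L
  obtain ⟨N, π, hπ⟩ := Algebra.FiniteType.iff_quotient_mvPolynomial''.mp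
    (inferInstance : Algebra.FiniteType A B)
  obtain ⟨mg, g, c, s, hgJ, hJg, hrel⟩ := Groth.Agent.H8.Elkik.exists_smooth_data ϖ L π hπ
  refine ⟨4 * s + 1, by omega, ?_⟩
  intro C _ _ _ _ _ m hm ⟨ψ⟩
  have htC0 : algebraMap A C ϖ ≠ 0 := algebraMap_ne_zero A hϖ C
  haveI := henselian A hϖ C
  have hϖm : ϖ ∈ maximalIdeal A := by
    rw [IsLocalRing.mem_maximalIdeal, mem_nonunits_iff]
    exact hϖ.not_isUnit
  have hIC : Ideal.span {algebraMap A C (ϖ ^ m)} = Ideal.span {algebraMap A C ϖ ^ m} := by
    rw [map_pow]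
  choose a ha using fun k : Fin N =>
    Ideal.Quotient.mk_surjective (I := Ideal.span {algebraMap A C (ϖ ^ m)})
      (ψ (Ideal.Quotient.mk (Ideal.span {algebraMap A B (ϖ ^ m)}) (π (X k))))
  have hcomp : ∀ p : MvPolynomial (Fin N) A,
      Ideal.Quotient.mk (Ideal.span {algebraMap A C (ϖ ^ m)}) (aeval a p) =
        ψ (Ideal.Quotient.mk (Ideal.span {algebraMap A B (ϖ ^ m)}) (π p)) := by
    intro p
    have h1 : (Ideal.Quotient.mkₐ A (Ideal.span {algebraMap A C (ϖ ^ m)})).comp (aeval a) =
        (ψ.toAlgHom.comp (Ideal.Quotient.mkₐ A (Ideal.span {algebraMap A B (ϖ ^ m)}))).comp π := by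
      apply MvPolynomial.algHom_ext
      intro k
      show Ideal.Quotient.mk (Ideal.span {algebraMap A C (ϖ ^ m)}) (aeval a (X k)) =
        ψ (Ideal.Quotient.mk (Ideal.span {algebraMap A B (ϖ ^ m)}) (π (X k)))
      rw [aeval_X]
      exact ha k
    exact DFunLike.congr_fun h1 p
  have haJ : ∀ p, π p = 0 → aeval a p ∈ Ideal.span {algebraMap A C ϖ ^ m} := by
    intro p hp
    have h1 := hcomp p
    rw [hp, map_zero, map_zero, Ideal.Quotient.eq_zero_iff_mem, hIC] at h1
    exact h1
  have hev : ∀ (x : Fin N → C) (p : MvPolynomial (Fin N) A),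
      eval x (MvPolynomial.map (algebraMap A C) p) = aeval x p := by
    intro x p
    rw [eval_map, aeval_def]
  have hbd : ∀ x : C, (∃ j : ℕ, algebraMap A C ϖ ^ j * x = 0) → algebraMap A C ϖ ^ 0 * x = 0 := by
    rintro x ⟨j, hj⟩
    rcases mul_eq_zero.1 hj with h | h
    · exact absurd h (pow_ne_zero _ htC0)
    · rw [h, mul_zero]
  obtain ⟨a', ha'g, ha'a⟩ := Groth.Agent.H8.Elkik.exists_solution_of_data (algebraMap A C ϖ) 0 hbd
    (fun i => MvPolynomial.map (algebraMap A C) (g i))
    (fun k j => MvPolynomial.map (algebraMap A C) (c k j)) s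
    (hrel_map (algebraMap A C) ϖ g c s hrel) m (by omega) (by omega) a
    (fun i => by rw [hev]; exact haJ _ (hgJ i))
  have hker : ∀ p, π p = 0 → aeval a' p = 0 := by
    intro p hp
    obtain ⟨e, he⟩ := hJg p hp
    have hle : Ideal.span (Set.range g) ≤
        RingHom.ker (aeval a' : MvPolynomial (Fin N) A →ₐ[A] C) := by
      rw [Ideal.span_le]
      rintro _ ⟨i, rfl⟩
      rw [SetLike.mem_coe, RingHom.mem_ker, ← hev]
      exact ha'g i
    have h1 : aeval a' (MvPolynomial.C (ϖ ^ e) * p) = 0 := (RingHom.mem_ker).1 (hle he)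
    rw [map_mul, aeval_C, map_pow] at h1
    exact (mul_eq_zero.1 h1).resolve_left (pow_ne_zero _ htC0)
  obtain ⟨φ, hφ⟩ := exists_algHom_of_ker_le π hπ (aeval a') hker
  have hcong : ∀ p : MvPolynomial (Fin N) A,
      aeval a' p - aeval a p ∈ Ideal.span {algebraMap A C ϖ} := by
    intro p
    have h1 : (Ideal.Quotient.mkₐ A (Ideal.span {algebraMap A C ϖ})).comp (aeval a') =
        (Ideal.Quotient.mkₐ A (Ideal.span {algebraMap A C ϖ})).comp (aeval a) := by
      apply MvPolynomial.algHom_ext
      intro k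
      show Ideal.Quotient.mk (Ideal.span {algebraMap A C ϖ}) (aeval a' (X k)) =
        Ideal.Quotient.mk (Ideal.span {algebraMap A C ϖ}) (aeval a (X k))
      rw [aeval_X, aeval_X, Ideal.Quotient.eq]
      exact Ideal.span_singleton_le_span_singleton.2 (dvd_pow_self _ (by omega)) (ha'a k)
    exact Ideal.Quotient.eq.1 (DFunLike.congr_fun h1 p)
  have hsurj : Function.Surjective φ := by
    have hN : (⊤ : Submodule A C) ≤ LinearMap.range φ.toLinearMap := by
      apply Submodule.le_of_le_smul_of_le_jacobson_bot (I := maximalIdeal A) Module.Finite.fg_top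
        (IsLocalRing.maximalIdeal_le_jacobson _)
      intro x _
      obtain ⟨bq, hbq⟩ := ψ.surjective
        (Ideal.Quotient.mk (Ideal.span {algebraMap A C (ϖ ^ m)}) x)
      obtain ⟨b, rfl⟩ := Ideal.Quotient.mk_surjective bq
      obtain ⟨p, rfl⟩ := hπ b
      have h1 : x - aeval a p ∈ Ideal.span {algebraMap A C (ϖ ^ m)} := by
        rw [← Ideal.Quotient.eq, hcomp p, hbq]
      have h1' : x - aeval a p ∈ Ideal.span {algebraMap A C ϖ} := by
        rw [hIC] at h1
        exact Ideal.span_singleton_le_span_singleton.2 (dvd_pow_self _ (by omega)) h1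
      have h2 : x - aeval a' p ∈ Ideal.span {algebraMap A C ϖ} := by
        have := Ideal.sub_mem _ h1' (hcong p)
        have e : x - aeval a p - (aeval a' p - aeval a p) = x - aeval a' p := by ring
        rwa [e] at this
      obtain ⟨y, hy⟩ := Ideal.mem_span_singleton'.1 h2
      have hx : x = φ (π p) + ϖ • y := by
        rw [hφ, Algebra.smul_def, mul_comm, hy]
        ring
      rw [hx]
      exact Submodule.add_mem_sup ⟨π p, rfl⟩
        (Submodule.smul_mem_smul hϖm Submodule.mem_top)
    intro x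
    obtain ⟨b, hb⟩ := hN (Submodule.mem_top : x ∈ ⊤)
    exact ⟨b, hb⟩
  have hinj : Function.Injective φ := by
    rw [RingHom.injective_iff_ker_eq_bot]
    by_contra hne
    haveI : (RingHom.ker φ).IsPrime := RingHom.ker_isPrime φ
    have hmax : (RingHom.ker φ).IsMaximal := Ideal.IsPrime.isMaximal inferInstance hne
    have hbot : (⊥ : Ideal C).IsMaximal := by
      have h1 := Ideal.map_eq_top_or_isMaximal_of_surjective (φ : B →+* C) hsurj hmax
      have h2 : Ideal.map (φ : B →+* C) (RingHom.ker φ) = ⊥ := by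
        have : RingHom.ker φ = Ideal.comap (φ : B →+* C) ⊥ := rfl
        rw [this]
        exact Ideal.map_comap_of_surjective (φ : B →+* C) hsurj ⊥
      rw [h2] at h1
      exact h1.resolve_left bot_ne_top
    exact IsDiscreteValuationRing.not_a_field C (IsLocalRing.eq_maximalIdeal hbot).symm
  exact ⟨AlgEquiv.ofBijective φ ⟨hinj, hsurj⟩⟩

end Ext

end Groth.Agent.H8.DvrApprox
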